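import Cfsg.Agent.TW.Odd1
import Cfsg.Agent.H7.Conn
import Cfsg.Agent.H7.CyclicTwo

/-! The case of dihedral Sylow 2-subgroups of order at least eight. -/

set_option autoImplicit false
set_option linter.unusedSectionVars false
set_option linter.unusedVariables false

namespace TW

open Cfsg Subgroup FT H4 H5 GW

variable {G : Type*} [Group G] [Finite G] {L S T D P : Subgroup G} {a b t x y z d r s u g : G}

theorem four_ex {V : Subgroup G} (hV : ∀ v ∈ V, v * v = 1) (c4 : Nat.card V = 4)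
    (hS : IsPGroup 2 S) (n : S ≤ Nor V) : ∃ w u, F4 w u ∧ V4 w u = V ∧ S ≤ Cen1 w := by
  obtain ⟨w, ⟨hw, w1⟩, cw⟩ := SF.exists_cen_pgroup hS (S := {a | a ∈ V ∧ a ≠ 1})
    (fun g hg z hz => ⟨cmem (n hg) hz.1, by simpa using hz.2⟩) (by
      have := SF.ncard_ne_one V
      omega)
  have ow := orderOf_eq_two' (hV w hw) w1
  obtain ⟨u, hu, u1⟩ : ∃ u ∈ V, u ∉ zpowers w := by
    by_contra hn
    push Not at hn
    have := card_le_of_le hn
    rw [Nat.card_zpowers, ow] at this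
    omega
  have f : F4 w u := ⟨ow, orderOf_eq_two' (hV u hu) fun e => u1 (e ▸ one_mem _),
    CIT.el_comm hV hw hu, fun e => u1 (e ▸ mem_zpowers _)⟩
  exact ⟨w, u, f, eq_of_le_of_card_ge (V_le hw hu) (by rw [Dg.card_V f, c4]),
    fun g hg => c1.2 (cw g hg)⟩

theorem four_idx {w : G} (f : F4 w u) (n : S ≤ Nor (V4 w u)) (cw : S ≤ Cen1 w) :
    ∀ a ∈ S, ∀ b ∈ S, a ∉ S ⊓ Cen1 u → b ∉ S ⊓ Cen1 u → a * b ∈ S ⊓ Cen1 u := by
  have k : ∀ y ∈ S, y ∉ S ⊓ Cen1 u → y * u * y⁻¹ = w * u := fun y hy y1 => by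
    rcases f.mem_V.1 (cmem (n hy) (a_V w u)) with e | e | e | e
    · exact absurd (conj_eq_one_iff.1 e) (ine f.ha)
    · exact absurd (conj_injective (e.trans (c1'.1 (cw hy)).symm)) f.ne
    · exact absurd ⟨hy, c1'.2 e⟩ y1
    · exact e
  exact fun a ha b hb a1 b1 => ⟨mul_mem ha hb, c1'.2 (by
    calc _ = a * (b * u * b⁻¹) * a⁻¹ := by group
      _ = _ := by rw [k b hb b1, ← conj_mul, c1'.1 (cw ha), k a ha a1, f.tta])⟩

structure Co (t : G) (L S T : Subgroup G) (x z : G) : Prop extends So t L where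
  hS : IsSylowOf 2 S ⊤
  hT : IsSylowOf 2 T (Cen1 t)
  TS : T ≤ S
  xD : x ∈ T ⊓ L
  out : ∀ y ∈ T ⊓ L, y ∉ zpowers x →
    y * y = 1 ∧ y * x * y⁻¹ = x⁻¹ ∧ ∀ z ∈ T ⊓ L, z ∉ zpowers x → y * z ∈ zpowers x
  xx : x * x ≠ 1
  zx : z ∈ zpowers x
  oz : orderOf z = 2
  nz : ¬ IsConj t z
  ex : ∃ s ∈ T ⊓ L, s ∉ zpowers x

theorem So.co (h : So t L) (hr : r ∈ L) (o : orderOf (r * r) = 2) (hS : IsSylowOf 2 S ⊤)
    (hT : IsSylowOf 2 T (Cen1 t)) (TS : T ≤ S) : ∃ x z, Co t L S T x z := by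
  have hD := hT.inf_of_le_normalizer h.le (hT.le.trans h.nor)
  obtain ⟨x, hx, e⟩ := h.d2 _ inf_le_right hD.isPGroup
  have x2 : x * x ≠ 1 := fun x2 => by
    obtain ⟨g, -, hg⟩ := MT.conj_in hD hr (k := 1 + 1) (by rw [pw4, ii o])
    refine ine (iconj o g) ?_
    rw [← conj_mul]
    by_cases e1 : g * r * g⁻¹ ∈ zpowers x
    · rcases mem_zp2 x2 e1 with e1 | e1 <;> simp only [e1, x2, one_mul]
    · exact (e _ hg e1).1
  obtain ⟨k, hk⟩ := hD.isPGroup ⟨x, hx⟩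
  obtain ⟨w, hw, ow⟩ := ex_sq (congrArg Subtype.val hk) x2
  refine ⟨x, w * w, h, hS, hT, TS, hx, e, x2, mul_mem hw hw, ow, h.nsq', ?_⟩
  obtain ⟨a, ha, b, hb, f⟩ := h.f4
  obtain ⟨g, -, hg⟩ := hD.exists_conj_le f.two_V (V_le ha hb)
  by_contra hn
  push Not at hn
  exact (f.conj g).ne (inv_uniq (hn _ (hg (conj_mem_conjS (a_V a b))))
    (hn _ (hg (conj_mem_conjS (t_V a b)))) (f.conj g).ha (f.conj g).ht)

namespace Co

variable (h : Co t L S T x z)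
include h

theorem zD : z ∈ T ⊓ L := zpowers_le.2 h.xD h.zx

theorem tT : t ∈ T := h.hT.le_of_le_normalizer (two_zp h.ot) (zpowers_le.2 (c1.2 rfl))
  (nzp h.hT.le) (mem_zpowers t)

theorem memT (hy : y ∈ S) (c : y ∈ Cen1 t) : y ∈ T :=
  (h.hT.eq_of_le (R := S ⊓ Cen1 t) h.hS.isPGroup.to_inf_left (le_inf h.TS h.hT.le)
    inf_le_right).le ⟨hy, c⟩

theorem spT (hy : y ∈ T) : y ∈ T ⊓ L ∨ y * t ∈ T ⊓ L :=
  (h.twoP h.hT.isPGroup h.hT.le hy).imp (⟨hy, ·⟩) (⟨mul_mem hy h.tT, ·⟩)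

theorem nL (hy : y ∈ L) : ¬ IsConj t y := fun c => by
  have oy : orderOf y = 2 := by
    obtain ⟨g, rfl⟩ := isConj_iff.1 c
    exact iconj h.ot g
  obtain ⟨g, -, e⟩ := h.one y hy z h.zD.2 oy h.oz
  exact h.nz (c.trans (isConj_iff.2 ⟨g, e⟩))

theorem inv (hy : y ∈ T ⊓ L) (y1 : y ∉ zpowers x) (ha : a ∈ zpowers x) : y * a * y⁻¹ = a⁻¹ :=
  H9.conj_inv_of_mem_zpowers (h.out y hy y1).2.1 ha

theorem Dz (hy : y ∈ T ⊓ L) : y ∈ Cen1 z := by
  by_cases e : y ∈ zpowers x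
  · exact c1.2 (H9.comm_of_mem_zpowers e h.zx)
  · exact c1'.2 ((h.inv hy e h.zx).trans (iinv h.oz))

theorem tz : t ∈ Cen1 z := c1s.1 (h.le h.zD.2)

theorem Tz (hy : y ∈ T) : y ∈ Cen1 z := (h.spT hy).elim h.Dz fun e =>
  (mul_mem_cancel_right h.tz).1 (h.Dz e)

theorem zD' (hy : y ∈ T ⊓ L) (c : T ≤ Cen1 y) : y = 1 ∨ y = z := by
  by_cases e : y ∈ zpowers x
  · obtain ⟨s, hs, s1⟩ := h.ex
    have := h.inv hs s1 e
    rw [c1'.1 (c hs.1)] at this
    exact (em _).imp_right fun y1 => inv_uniq e h.zx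
      (orderOf_eq_two' (mul_eq_one_iff_eq_inv.2 this) y1) h.oz
  · have := (h.out y hy e).2.1
    rw [c1'.1 (c1s.1 (c h.xD.1))] at this
    exact absurd (mul_eq_one_iff_eq_inv.2 this) h.xx

theorem zT (hy : y ∈ T) (c : T ≤ Cen1 y) : y = 1 ∨ y = z ∨ y = t ∨ y = z * t := by
  have k : ∀ {a : G}, y * t = a → y = a * t := fun e => by rw [← e, mul_assoc, h.tt, mul_one]
  rcases h.spT hy with e | e
  · exact (h.zD' e c).imp_right Or.inl
  · exact Or.inr (Or.inr ((h.zD' e fun a ha => c1s.1 (mul_mem (c1s.1 (c ha))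
      (c1s.1 (h.hT.le ha)))).imp (fun e => (k e).trans (one_mul t)) k))

theorem swap (hg : g ∈ S) (n : g ∈ Nor T) (g1 : g ∉ T) : g * t * g⁻¹ = z * t := by
  have c := MT.isConj_mk g t
  rcases h.zT (cmem n h.tT) (_root_.P.le_cen_conj n h.hT.le) with e | e | e | e
  · exact absurd (conj_eq_one_iff.1 e) (ine h.ot)
  · exact absurd (e ▸ c) h.nz
  · exact absurd (h.memT hg (c1'.2 e)) g1
  · exact e

theorem cardC (c : IsConj t s) (hP : IsPGroup 2 P) (le : P ≤ Cen1 s) :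
    Nat.card P ≤ Nat.card T := by
  obtain ⟨g, rfl⟩ := isConj_iff.1 c.symm
  rw [← card_conjS g P]
  exact h.hT.card_le (hP.map _) (by rw [← conj_c1]; exact conjS_mono g le)

theorem tD : t ∈ Nor (T ⊓ L) := minf (le_normalizer h.tT) (h.nor (c1.2 rfl))

theorem eT : T ⊓ L ⊔ zpowers t = T := le_antisymm (sup_le inf_le_left (zpowers_le.2 h.tT))
  fun y hy => (mem_sup_zp h.tt h.tD).2 (h.spT hy)

variable [Group.IsPerfect G]

theorem lt : T < S := h.TS.lt_of_ne fun e => by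
  obtain ⟨s, hs, c⟩ := thom h.tt h.tD (fun e => h.tn e.2) (h.eT.symm ▸ e ▸ h.hS)
  exact h.nL hs.2 c

theorem cz : IsConj t (z * t) := by
  obtain ⟨g, hg, g1⟩ := SetLike.exists_of_lt (lt_inf_normalizer_of_isPGroup h.hS.isPGroup h.lt)
  exact isConj_iff.2 ⟨g, h.swap hg.1 hg.2 g1⟩

theorem cL (hy : y ∈ L) (y2 : y * y = 1) : IsConj t (y * t) := by
  by_cases y1 : y = 1
  · rw [y1, one_mul]
  obtain ⟨g, hg, e⟩ := h.one z h.zD.2 y hy h.oz (orderOf_eq_two' y2 y1)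
  exact h.cz.trans (isConj_iff.2 ⟨g, by rw [← conj_mul, e, c1'.1 (h.le hg)]⟩)

theorem cL' (c : y ∈ Cen1 t) (y2 : y * y = 1) (y1 : y ∉ L) : IsConj t y := by
  have := h.cL ((h.two y c 1 (by rw [pow_one, sq, y2])).resolve_left y1) (by
    rw [mul_assoc, ← mul_assoc t, ← c1.1 c, mul_assoc y, h.tt, mul_one, y2])
  rwa [mul_assoc, h.tt, mul_one] at this

/-- exactly one of `y`, `y s` is conjugate to `t` -/
theorem lemP (c : IsConj t s) (hy : y ∈ Cen1 s) (y2 : y * y = 1) :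
    IsConj t y ↔ ¬ IsConj t (y * s) := by
  obtain ⟨g, e⟩ := isConj_iff.1 c.symm
  have hy' : g * y * g⁻¹ ∈ Cen1 t := by rw [← e, ← conj_c1]; exact conj_mem_conjS hy
  have y2' : g * y * g⁻¹ * (g * y * g⁻¹) = 1 := by rw [conj_mul, y2]; simp
  have k : ∀ a, IsConj t a ↔ IsConj t (g * a * g⁻¹) := fun a =>
    ⟨fun c => c.trans (MT.isConj_mk g a), fun c => c.trans (MT.isConj_mk g a).symm⟩
  rw [k, k (y * s), ← conj_mul, e]
  generalize g * y * g⁻¹ = y at hy' y2'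
  by_cases yL : y ∈ L
  · exact iff_of_false (h.nL yL) (not_not.2 (h.cL yL y2'))
  · exact iff_of_true (h.cL' hy' y2' yL) (h.nL ((h.two y hy' 1
      (by rw [pow_one, sq, y2'])).resolve_left yL))

theorem case1 (hc : Nat.card S ≤ 2 * Nat.card T) : False := by
  have i := idx2 h.TS hc
  have tS := h.TS h.tT
  have nT : S ≤ Nor T := fun y hy => mnor fun a ha =>
    mem_of_eq (mul_mem (cm2 i hy (h.TS ha)) ha) (by group)
  obtain ⟨ρ, ρD, ρ1⟩ := h.ex
  have nD : S ≤ Nor (T ⊓ L) := fun y hy => mnor fun a ha => by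
    have k : ∀ a ∈ T ⊓ L, a * a = 1 → y * a * y⁻¹ ∈ T ⊓ L := fun a ha a2 => by
      refine ⟨cmem (nT hy) ha.1, ?_⟩
      by_contra e
      exact h.nL ha.2 ((h.cL' (h.hT.le (cmem (nT hy) ha.1)) (by rw [conj_mul, a2]; simp) e).trans
        (MT.isConj_mk y a).symm)
    by_cases a1 : a ∈ zpowers x
    · have r := (h.out ρ ρD ρ1).1
      exact mem_of_eq (mul_mem (k _ (mul_mem ha ρD) (h.out _ (mul_mem ha ρD)
        (mt (mul_mem_cancel_left a1).1 ρ1)).1) (inv_mem (k ρ ρD r))) (by group)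
    · exact k a ha (h.out a ha a1).1
  have zS : S ≤ Cen1 z := fun y hy => by
    rcases h.zD' (cmem (nD hy) h.zD) (_root_.P.le_cen_conj (nT hy) fun _ => h.Tz) with e | e
    · exact absurd (conj_eq_one_iff.1 e) (ine h.oz)
    · exact c1'.2 e
  have ct : ∀ y ∈ S, y ∈ NN (T ⊓ L) t := fun y hy => ⟨nD hy, by
    by_cases e : y ∈ T
    · rw [c1'.1 (h.hT.le e)]; simp
    · rw [h.swap hy (nT hy) e, mul_inv_cancel_right]; exact h.zD⟩
  have sy : ∀ {a b : G}, a ∈ S → b ∈ S → a ∈ NN (T ⊓ L) b → b ∈ NN (T ⊓ L) a := fun ha hb e =>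
    ⟨nD hb, mem_of_eq (inv_mem e.2) (by group)⟩
  have cT : ∀ a ∈ T, ∀ y ∈ S, a ∈ NN (T ⊓ L) y := fun a ha y hy => h.eT.ge.trans (sup_le
    (fun a ha => mem_NN.2 ⟨le_normalizer ha, mem_of_eq (mul_mem ha (cmem (nD hy) (inv_mem ha)))
      (by group)⟩)
    (zpowers_le.2 (sy hy tS (ct y hy)))) ha
  have cS : ∀ a ∈ S, ∀ y ∈ S, a * y * a⁻¹ * y⁻¹ ∈ T ⊓ L := fun a ha y hy => by
    by_cases a1 : a ∈ T
    · exact (cT a a1 y hy).2
    by_cases y1 : y ∈ T
    · exact (sy (h.TS y1) ha (cT y y1 a ha)).2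
    · exact (mem_of_eq (mul_mem (cT _ (i a ha y hy a1 y1) y hy) (inv_mem (NN_of (c1.2 rfl)
        (nD hy)))) (mul_inv_cancel_right a y)).2
  have tn : t ∉ T ⊓ L := fun e => h.tn e.2
  have DS : T ⊓ L ≤ S := inf_le_left.trans h.TS
  have key : ∀ g ∈ S, g ∉ T → g * g ∈ T ⊓ L → ∃ s, s * g ∈ T ⊓ L ∧ IsConj t s ∧
      ∀ y ∈ S, y * s * y⁻¹ = s ∨ y * s * y⁻¹ = z * s := fun g hg g1 gg => by
    have m := fun y => mem_sup_zp' (x := y) gg (nD hg)
    have MS : T ⊓ L ⊔ zpowers g ≤ S := sup_le DS (zpowers_le.2 hg)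
    obtain ⟨k, h1, h2⟩ := gtr h.hS MS (fun a ha y hy => mem_sup_left (cS a ha y hy)) tS
      (fun e => ((m t).1 e).elim tn fun e => g1 ((mul_mem_cancel_left h.tT).1 e.1))
      (h.tt ▸ one_mem _) (fun y hy _ => by
        by_cases y1 : y ∈ T
        · exact (h.spT y1).imp mem_sup_left mem_sup_left
        · refine (h.spT (i y hy g hg y1 g1)).imp (fun e => (m y).2 (Or.inr e)) fun e =>
            (m _).2 (Or.inr (mem_of_eq (mul_mem e (cS _ (inv_mem tS) _ (inv_mem hg))) (by group))))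
      h.tt h.hT.isPGroup h.hT.le
    have c : IsConj t (k⁻¹ * t * k) := isConj_iff.2 ⟨k⁻¹, by rw [inv_inv]⟩
    have e1 := ((m _).1 h1).resolve_left fun e => h.nL e.2 c
    refine ⟨_, e1, c, fun y hy => ?_⟩
    have c1 : Nat.card T ≤ Nat.card ↥(S ⊓ Cen1 (k⁻¹ * t * k)) := by
      rw [← card_conjS k⁻¹ T]
      refine card_le_of_le (le_inf (fun p hp => ?_) ?_)
      · simpa [mul_assoc] using h2 _ (mem_conjS.1 hp)
      · nth_rewrite 3 [← inv_inv k]
        rw [← conj_c1]; exact conjS_mono _ h.hT.le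
    have sS := MS h1
    have sT : k⁻¹ * t * k ∉ T := fun e => g1 ((mul_mem_cancel_left e).1 e1.1)
    generalize k⁻¹ * t * k = s at c c1 sS sT
    refine (em (y ∈ Cen1 s)).imp c1'.1 fun y1 => ?_
    have := (idx2 (inf_le_left : S ⊓ Cen1 s ≤ S) (by omega) y hy t tS (fun e => y1 e.2)
      fun e => sT (h.memT sS (c1s.1 e.2))).2
    have e2 := h.swap sS (nT sS) sT
    have e3 : t * s * t⁻¹ = z * s := by
      calc _ = t * (s * t * s⁻¹) * s := by rw [iinv h.ot]; group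
        _ = _ := by rw [e2, ← mul_assoc, GW.c1.1 h.tz, mul_assoc z, h.tt, mul_one]
    calc _ = y * t * (t * s * t⁻¹) * (y * t)⁻¹ := by
          rw [mul_inv_rev, iinv h.ot]
          simp only [mul_assoc, ← mul_assoc t t, h.tt, one_mul]
      _ = y * t * z * (y * t)⁻¹ * (y * t * s * (y * t)⁻¹) := by rw [e3]; group
      _ = _ := by rw [c1'.1 this, c1'.1 (zS (mul_mem hy tS))]
  obtain ⟨g, hg, g2, g1⟩ : ∃ g ∈ S, g * g = 1 ∧ g ∉ T := by
    by_contra hn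
    push Not at hn
    obtain ⟨k, h1, -⟩ := gtr h.hS DS cS tS tn (h.tt ▸ one_mem _)
      (fun y hy y2 => h.spT (hn y hy y2)) h.tt h.hT.isPGroup h.hT.le
    exact h.nL h1.2 (isConj_iff.2 ⟨k⁻¹, by rw [inv_inv]⟩)
  obtain ⟨s, e1, c1', k1⟩ := key g hg g1 (g2 ▸ one_mem _)
  have sS : s ∈ S := (mul_mem_cancel_right hg).1 (DS e1)
  have sT : s ∉ T := fun e => g1 ((mul_mem_cancel_left e).1 e1.1)
  have ss := i2 h.tt c1'
  have st : ∀ {s : G}, s ∈ S → s ∉ T → s * t = z * t * s := fun hs s1 =>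
    mul_inv_eq_iff_eq_mul.1 (h.swap hs (nT hs) s1)
  have zc : ∀ {y : G}, y ∈ S → y * z = z * y := fun hy => c1.1 (zS hy)
  have zz := ii h.oz
  obtain ⟨s', e2, c2', k2⟩ := key (s * t) (mul_mem sS tS) (mt (mul_mem_cancel_right h.tT).1 sT) (by
    nth_rewrite 1 [st sS sT]
    rw [mul_assoc, ← mul_assoc s, ss, one_mul, mul_assoc, h.tt, mul_one]; exact h.zD)
  have fin : ∀ {s s' d : G}, s ∈ S → s ∉ T → IsConj t s → IsConj t s' → d ∈ T ⊓ L →
      s' = d * t * s → d ∈ zpowers x → d ∈ Cen1 s → ρ ∈ Cen1 s → ρ * s' * ρ⁻¹ = z * s' →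
      False := fun {s s' d} sS sT c c' dD e dx ds ρs e' => by
    have ρt := c1.1 (h.le ρD.2)
    have dt := c1.1 (h.le dD.2)
    have s'S : s' ∈ S := e ▸ mul_mem (mul_mem (DS dD) tS) sS
    have s'T : s' ∉ T := fun e1 => sT ((mul_mem_cancel_left (mul_mem (mem_inf.1 dD).1 h.tT)).1 (e ▸ e1))
    have a1 : ρ * t ∈ Cen1 s' := c1.2 (by
      calc _ = ρ * z * (z * t * s') := by rw [mul_assoc ρ z, ← mul_assoc z, ← mul_assoc z, zz]; group
        _ = z * (ρ * s' * ρ⁻¹) * (ρ * t) := by rw [← st s'S s'T, zc (DS ρD)]; group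
        _ = _ := by rw [e', ← mul_assoc z, zz, one_mul])
    have a2 := h.cL ρD.2 (h.out ρ ρD ρ1).1
    have a3 := (h.lemP c' a1 (i2 h.tt a2)).1 a2
    have a4 : ρ * d ∈ T ⊓ L := mul_mem ρD dD
    refine a3 (not_not.1 (mt (h.lemP c (mul_mem ρs ds) (h.out _ a4
      (mt (mul_mem_cancel_right dx).1 ρ1)).1).2 (h.nL a4.2)) |>.trans (IsConj.symm ?_))
    rw [e, ← mul_assoc, ← mul_assoc, mul_assoc ρ t, ← dt, mul_assoc ρ, mul_assoc d, h.tt, mul_one]
  obtain ⟨d, dD, rfl⟩ : ∃ d ∈ T ⊓ L, s' = d * t * s := ⟨_, e2, by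
    rw [mul_assoc s', mul_assoc s, h.tt, mul_one, mul_assoc, ss, mul_one]⟩
  have dt := c1.1 (h.le dD.2)
  have e3 := i2 h.tt c2'
  have dS := DS dD
  rcases k1 d dS with e4 | e4
  · have e5 : d * d = z := by
      have ds := mul_inv_eq_iff_eq_mul.1 e4
      calc _ = d * d * (z * z) * (t * t) * (s * s) := by rw [zz, h.tt, ss]; group
        _ = z * (d * t * (d * (z * t * s)) * s) := by
          simp only [mul_assoc, ← mul_assoc d z, zc dS, ← mul_assoc t z, zc tS, ← mul_assoc t d, ← dt]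
        _ = z * (d * t * s * (d * t * s)) := by
          rw [← st sS sT, ← mul_assoc d s, ds]; group
        _ = _ := by rw [e3, mul_one]
    have dx : d ∈ zpowers x := by
      by_contra e
      exact ine h.oz (e5 ▸ (h.out d dD e).1)
    have ρd : ρ * d * ρ⁻¹ = z * d := by
      rw [h.inv ρD ρ1 dx, ← e5, inv_eq_iff_mul_eq_one, ← mul_assoc, ← mul_assoc, mul_assoc _ d, e5, zz]
    have e6 : ρ * (d * t * s) * ρ⁻¹ = z * d * t * (ρ * s * ρ⁻¹) := by
      rw [← conj_mul, ← conj_mul, ρd, GW.c1'.1 (h.le ρD.2)]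
    rcases k1 ρ (DS ρD) with e7 | e7
    · exact fin sS sT c1' c2' dD rfl dx (GW.c1'.2 e4) (GW.c1'.2 e7) (by rw [e6, e7]; group)
    · have s'S := mul_mem (mul_mem dS tS) sS
      refine fin (d := d⁻¹) s'S (mt (mul_mem_cancel_left (mul_mem (mem_inf.1 dD).1 h.tT)).1 sT) c2' c1'
        (inv_mem dD) (by rw [dt, ← mul_assoc, ← mul_assoc, mul_assoc _ t t, h.tt]; group)
        (inv_mem dx) (inv_mem (c1s.1 (mul_mem (mul_mem (c1.2 rfl) (c1s.1 (h.le dD.2)))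
          (c1s.1 (GW.c1'.2 e4))))) (GW.c1'.2 ?_) e7
      rw [e6, e7, ← mul_assoc, mul_assoc z, mul_assoc z, zc (mul_mem dS tS), ← mul_assoc z, zz,
        one_mul]
  · have ds := mul_inv_eq_iff_eq_mul.1 e4
    have e5 : d * d = 1 := by
      calc _ = d * d * (z * z) * (t * t) * (s * s) := by rw [zz, h.tt, ss]; group
        _ = d * t * (z * (d * (z * t * s))) * s := by
          simp only [mul_assoc, ← mul_assoc d z, zc dS, ← mul_assoc t z, zc tS, ← mul_assoc t d, ← dt]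
        _ = d * t * s * (d * t * s) := by
          rw [← st sS sT, ← mul_assoc d s, ds]
          simp only [mul_assoc, ← mul_assoc z z, zz, one_mul]
        _ = _ := e3
    have a2 := h.cL dD.2 e5
    refine (h.lemP c1' (c1.2 ?_) (i2 h.tt a2)).1 a2 c2'
    calc _ = d * z * (z * t * s) := by simp only [mul_assoc, ← mul_assoc z z, zz, one_mul]
      _ = z * (d * s) * t := by rw [← st sS sT, zc dS]; group
      _ = _ := by rw [ds]; simp only [mul_assoc, ← mul_assoc z z, zz, one_mul]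

theorem case2 (f : F4 z u) (uD : u ∈ T ⊓ L) (n : S ≤ Nor (V4 z u)) : False := by
  have ux : u ∉ zpowers x := fun e => f.ne (inv_uniq e h.zx f.ha h.oz)
  have iv := (h.out u uD ux).2.1
  have x2 : x * x = z := by
    have := mul_mem (cmem (n (h.TS h.xD.1)) (a_V z u)) (inv_mem (a_V z u))
    rw [mul_assoc x, mul_assoc x, ← conj_inv, iv, inv_inv] at this
    have m := mul_mem (mem_zpowers x) (mem_zpowers x)
    rcases f.mem_V.1 this with e | e | e | e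
    · exact absurd e h.xx
    · exact e
    · exact absurd (e ▸ m) ux
    · exact absurd ((mul_mem_cancel_left h.zx).1 (e ▸ m)) ux
  have c1 := idx2' (zpowers_le.2 h.xD) fun a ha b hb a1 b1 => (h.out a ha a1).2.2 b hb b1
  have c2 := h.bound h.hT.isPGroup h.hT.le
  have c3 := Nat.le_of_dvd (by norm_num) (orderOf_dvd_of_pow_eq_one
    ((pw4 x).trans (by rw [x2, ii h.oz])))
  rw [Nat.card_zpowers] at c1
  have xu : x ∉ Cen1 u := fun e => h.xx (mul_eq_one_iff_eq_inv.2 (by rw [← iv, c1'.1 (c1s.1 e)]))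
  obtain ⟨d, hd, r⟩ := h.rot z h.zD.2 u uD.2 f
  have VL : V4 z u ≤ L := V_le h.zD.2 uD.2
  have w := tw4 f h.tt (h.le h.zD.2) (h.le uD.2) (fun e => h.tn (VL e)) (h.le hd) r
    fun P hP ab le => by
      obtain ⟨k, -, e⟩ := h.hT.exists_conj_le hP le
      have : conjS k P ≤ Cen (conjS k P) := by
        rw [Cen, ← conjS_centralizer]; exact conjS_mono k ab
      have := half (lt_of_le_of_ne e fun e1 : conjS k P = T => xu
        (cen_iff_le.1 (this (e1.ge uD.1)) (e1.ge h.xD.1)))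
      rw [card_conjS] at this
      omega
  have m : x * u ∈ T ⊓ L := mul_mem h.xD uD
  refine Tw.od ⟨w, fun a => h.nL (i4_mem h.zD.2 uD.2 a), h.nsq, fun g _ => w.sl4 g⟩ w.sl4 h.hS
    (n.trans_eq (by rw [Ur_i4])) h.hT (by rw [nat4]; omega) h.nor (Ur_i4.trans_le VL) h.tn
    (fun _ a _ => h.nL a) (fun H tH hH => h.eT.ge.trans (sup_le (fun y hy => ?_) (zpowers_le.2 tH)))
    (h.hT.le m.1) (by rw [Ur_i4]; exact n (h.TS m.1))
    (h.out _ m (mt (mul_mem_cancel_left (mem_zpowers x)).1 ux)).1 fun e => xu ?_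
  · have k : ∀ y ∈ T ⊓ L, y ∉ zpowers x → y ∈ H := fun y hy y1 => hH y hy.1 hy.2 (h.out y hy y1).1
    by_cases y1 : y ∈ zpowers x
    · exact (mul_mem_cancel_right (k u uD ux)).1 (k _ (mul_mem hy uD)
        (mt (mul_mem_cancel_left y1).1 ux))
    · exact k y hy y1
  · rw [Ur_i4, cen_V] at e
    exact (mul_mem_cancel_right (GW.c1.2 rfl)).1 e.2

theorem core {w : G} (f : F4 w u) (VS : V4 w u ≤ S) (n : S ≤ Nor (V4 w u)) (cw : S ≤ Cen1 w)
    (tV : t ∈ Cen (V4 w u)) : False := by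
  have VT : V4 w u ≤ T := fun v hv => h.memT (VS hv) (cen_iff_le.1 tV hv)
  have nw : ¬ IsConj t w := fun c =>
    (card_lt_of_lt h.lt).not_ge (h.cardC c h.hS.isPGroup cw)
  obtain rfl : w = z := by
    rcases h.zT (VT (t_V w u)) (h.TS.trans cw) with e | e | e | e
    · exact absurd e (ine f.ht)
    · exact e
    · exact absurd (e ▸ IsConj.refl t) nw
    · exact absurd (e ▸ h.cz) nw
  have hu := VT (a_V w u)
  by_cases uL : u ∈ L
  · exact h.case2 f ⟨hu, uL⟩ n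
  have := idx2' inf_le_left (four_idx f n cw)
  have := h.cardC (h.cL' (h.hT.le hu) (ii f.ha) uL) h.hS.isPGroup.to_inf_left
    (inf_le_right : S ⊓ Cen1 u ≤ _)
  exact h.case1 (by omega)

end Co

theorem So.big [Group.IsPerfect G] (h : So t L) (hr : r ∈ L) (o : orderOf (r * r) = 2) :
    False := by
  obtain ⟨T, hT⟩ := exists_isSylowOf 2 (Cen1 t)
  obtain ⟨S, hS, TS⟩ := exists_isSylowOf_ge hT.isPGroup le_top
  obtain ⟨x, z, c⟩ := h.co hr o hS hT TS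
  obtain ⟨s, sD, s1⟩ := c.ex
  have f : F4 z s := ⟨c.oz, orderOf_eq_two' (c.out s sD s1).1 fun e => s1 (e ▸ one_mem _),
    (c1.1 (c.Dz sD)).symm, fun e => s1 (e ▸ c.zx)⟩
  have VL : V4 z s ≤ L := V_le c.zD.2 sD.2
  have tV : t ∈ Cen (V4 z s) := cen_iff_le.2 (VL.trans h.le)
  have el : ∀ y ∈ V4 z s ⊔ zpowers t, y * y = 1 := fun y hy => by
    have k : ∀ y ∈ V4 z s, y * y = 1 := fun y hy => by
      rcases f.mem_V.1 hy with rfl | rfl | rfl | rfl
      exacts [one_mul 1, ii f.ht, ii f.ha, f.sq]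
    rcases (mem_sup_zp h.tt (mcnor tV)).1 hy with e | e
    · exact k y e
    · have := k _ e
      rwa [mul_assoc, ← mul_assoc t, ← c1.1 ((mul_mem_cancel_right (c1.2 rfl)).1 (h.le (VL e))),
        mul_assoc, h.tt, mul_one] at this
  obtain ⟨U, nU, eU, cU⟩ := H7.exists_normal_ea_of_rank hS.isPGroup (H7.not_prankLE_iff.2
    ⟨V4 z s ⊔ zpowers t, sup_le (V_le (TS c.zD.1) (TS sD.1)) (zpowers_le.2 (TS c.tT)),
      ⟨CIT.el_isComm el, fun a ha => (sq a).trans (el a ha)⟩, by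
      rw [card_sup_zp h.tt (mcnor tV) fun e => h.tn (VL e), Dg.card_V f]; norm_num⟩)
  have n : S ≤ Nor (U.map S.subtype) := fun g hg => mnor (by
    rintro _ ⟨u, hu, rfl⟩
    exact ⟨_, nU.conj_mem u hu ⟨g, hg⟩, rfl⟩)
  obtain ⟨w, u, f', e, cw⟩ := four_ex (V := U.map S.subtype) (by
    rintro _ ⟨u, hu, rfl⟩
    exact (sq _).symm.trans (congrArg Subtype.val (eU.2 u hu)))
    (by rw [card_map_of_injective S.subtype_injective, cU]; rfl) hS.isPGroup n
  have VS : V4 w u ≤ S := e ▸ map_subtype_le U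
  rw [← e] at n
  obtain ⟨g, h1, h2⟩ := gtr2 hS inf_le_left (four_idx f' n cw) h.tt (TS c.tT) TS hT.le
  obtain ⟨x, z, c⟩ := h.co hr o (hS.map_conj (g := g) ((normalizer_eq_top _).ge (mem_top g))) hT
    fun p hp => mem_conjS.2 (h2 p hp)
  refine c.core (f'.conj g) (conj_V g w u ▸ conjS_mono g VS) ?_ (conj_c1 g w ▸ conjS_mono g cw) ?_
  · rw [← conj_V, Nor, ← conjS_normalizer]; exact conjS_mono g n
  · rw [← conj_V, Cen, ← conjS_centralizer]
    exact mem_conjS.2 ((cen_V w u).ge ⟨cw h1.1, h1.2⟩)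

theorem So.syl [Group.IsPerfect G] (h : So t L) :
    ∃ A : Subgroup G, IsSylowOf 2 A ⊤ ∧ Nat.card A = 8 ∧ ∀ x ∈ A, x * x = 1 :=
  h.small fun _ => h.big

end TW
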