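import Cfsg.Agent.TW.Odd2
import Cfsg.Agent.GW.Cv3
import Cfsg.Agent.GW.Dg6
import Cfsg.Agent.W.Main
import Cfsg.Agent.IT.SL2

/-! Involution centralizers of type `Z₂ × PSL₂(q)`. -/

set_option autoImplicit false
set_option linter.unusedSectionVars false
set_option linter.unusedVariables false

namespace TW

open Cfsg Subgroup FT H4 H5 GW H6 Matrix
open scoped MatrixGroups

theorem psl_perf {F : Type} [Field F] [Fintype F] (hq : 3 < Fintype.card F) :
    Group.IsPerfect PSL(2, F) :=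
  have : Group.IsPerfect SL(2, F) := ⟨H8.sl_commutator_eq_top (slok hq)⟩
  inferInstance

theorem psl_nc {F : Type} [Field F] [Fintype F] (hq : 3 < Fintype.card F) :
    ¬ IsMulCommutative PSL(2, F) :=
  have := psl_perf hq
  have := H8.psl_simple (slok hq)
  Group.IsPerfect.not_isMulCommutative _

theorem psl_d2 {F : Type} [Field F] [Fintype F] (hq : 3 < Fintype.card F)
    (ho : Odd (Fintype.card F)) : D2 PSL(2, F) := by
  have := H8.psl_simple (slok hq)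
  obtain ⟨π, c⟩ := Dg.exists_ctx (L := ⊤) (cen_top_simple (psl_nc hq)) ho topEquiv
  obtain ⟨τ, σ, hn⟩ := Dg.exists_num c.two
  obtain ⟨a, J, hl, tr⟩ : ∃ a J, Dg.Lr π a J ∧ J.trace = 0 :=
    ⟨_, _, Dg.lr_pi π ⟨!![0, 1; -1, 0], by simp⟩, by simp⟩
  have oa := c.ord_trl hl tr
  obtain ⟨P, hP⟩ := exists_isSylowOf 2 (Cen1 a)
  obtain ⟨S, rfl⟩ := (Dg.syl_of_odd hP le_top (by
    rw [relIndex_top_right, c.idx hn oa (mem_top a)]; exact c.odd_idx hn oa)).exists_sylow_top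
  have := Dg.cyc_Nt c.two tr hl.1
  have : IsCyclic ((Dg.Nt J).map π) := isCyclic_of_surjective _ (π.subgroupMap_surjective _)
  have : IsCyclic ↥((S : Subgroup PSL(2, F)) ⊓ (Dg.Nt J).map π) :=
    Subgroup.isCyclic_of_le inf_le_right
  obtain ⟨x, hx⟩ := (Subgroup.isCyclic_iff_exists_zpowers_eq_top _).1 this
  have k : ∀ y ∈ (S : Subgroup PSL(2, F)), y ∉ zpowers x →
      ∃ g, π g = y ∧ g.1 * J = -(J * g.1) := fun y hy y1 => by
    obtain ⟨g, hg, rfl⟩ := (c.map_Mt hl).ge ⟨hP.le hy, mem_top _⟩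
    exact ⟨g, rfl, hg.resolve_left fun e => y1 (hx.ge ⟨hy, g, e, rfl⟩)⟩
  refine D2_of_sylow S (x := x) fun y hy y1 => ?_
  obtain ⟨g, rfl, hg⟩ := k y hy y1
  obtain ⟨-, u, hu, rfl⟩ := hx.le (mem_zpowers x)
  refine ⟨ii (c.ord_trl (Dg.lr_pi π g) (Dg.trace_of_anti c.two hl.1 hg)),
    c.inv_N tr hl.1 hg (Dg.lr_pi π g) hu, fun z hz z1 => ?_⟩
  obtain ⟨g', rfl, hg'⟩ := k z hz z1
  refine hx.ge ⟨mul_mem hy hz, g * g', ?_, map_mul _ _ _⟩
  change g.1 * g'.1 * J = J * (g.1 * g'.1)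
  rw [mul_assoc, hg', mul_neg, ← mul_assoc, hg, neg_mul, neg_neg, mul_assoc]

section
variable {X Y : Type*} [Group X] [Finite X] [Group Y] [Finite Y] {p : X →* Y}

theorem inj2 (ho : Odd (Nat.card p.ker)) {P : Subgroup X} (hP : IsPGroup 2 P) {x : X} (hx : x ∈ P)
    (e : p x = 1) : x = 1 := H9.eq_one_of_odd_of_mem hP hx (odd_ord ho e)

theorem inj2' (ho : Odd (Nat.card p.ker)) {P : Subgroup X} (hP : IsPGroup 2 P) :
    Function.Injective (p.comp P.subtype) :=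
  (injective_iff_map_eq_one _).2 fun x e => Subtype.ext (inj2 ho hP x.2 e)

theorem d2_sub {L : Subgroup X} (h : D2 L) (T : Subgroup X) (le : T ≤ L) (hT : IsPGroup 2 T) :
    ∃ x ∈ T, ∀ y ∈ T, y ∉ zpowers x →
      y * y = 1 ∧ y * x * y⁻¹ = x⁻¹ ∧ ∀ z ∈ T, z ∉ zpowers x → y * z ∈ zpowers x := by
  obtain ⟨x, hx, e⟩ := h _ (isPGroup_subgroupOf hT L)
  have k : ∀ y : L, y ∈ zpowers x → (y : X) ∈ zpowers (x : X) := by
    rintro _ ⟨n, rfl⟩; exact ⟨n, by simp⟩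
  refine ⟨x, hx, fun y hy y1 => ?_⟩
  obtain ⟨h1, h2, h3⟩ := e ⟨y, le hy⟩ hy (mt (k _) y1)
  exact ⟨congrArg Subtype.val h1, congrArg Subtype.val h2, fun z hz z1 =>
    k _ (h3 ⟨z, le hz⟩ hz (mt (k _) z1))⟩

end

variable {G : Type*} [Group G] [Finite G] {t : G} {L : Subgroup G}

theorem Sx.so (h : Sx t L) {Y : Type*} [Group Y] [Finite Y] [IsSimpleGroup Y]
    (nc : ¬ IsMulCommutative Y) (hY : D2 Y) {p : L →* Y} (hp : Function.Surjective p)
    (ho : Odd (Nat.card p.ker)) : So t L := by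
  have d : D2 L := fun T hT => d2_sub (hY.of_injective _ (inj2' ho hT)) T le_rfl hT
  have one : OneCl L := fun a ha b hb oa ob => MT.lift_cj (N := pre p ⊥) hp
    (by rw [pre_subgroupOf, MonoidHom.comap_bot]) (by
      rwa [pre, card_map_of_injective L.subtype_injective, MonoidHom.comap_bot])
    (a := ⟨a, ha⟩) (b := ⟨b, hb⟩) oa ob (oneCl_top.1 (hY.oneCl nc) _ _
      (_root_.L.orderOf_map_eq_two (Subtype.ext (ii oa)) p (not_mem_odd ho (by rwa [← orderOf_coe])))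
      (_root_.L.orderOf_map_eq_two (Subtype.ext (ii ob)) p (not_mem_odd ho (by rwa [← orderOf_coe]))))
  refine ⟨h, d2_sub d, one, ?_, fun a ha b hb f => ?_⟩
  · obtain ⟨a, b, f⟩ := hY.exists_F4 (not_npc_simple nc)
    obtain ⟨P, hP, e⟩ := exists_isPGroup_map_eq hp f.two_V
    obtain ⟨a, ha, rfl⟩ := e.ge (t_V a b)
    obtain ⟨b, hb, rfl⟩ := e.ge (a_V _ b)
    have o : ∀ a ∈ P, orderOf (p a) = 2 → orderOf (a : G) = 2 := fun a ha o => by
      rw [orderOf_coe, ← o]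
      exact (orderOf_coe (⟨a, ha⟩ : P)).trans (orderOf_injective _ (inj2' ho hP) ⟨a, ha⟩).symm
    exact ⟨a, a.2, b, b.2, o a ha f.ht, o b hb f.ha, congrArg (fun x : P => ((x : L) : G))
      (inj2' ho hP (a₁ := ⟨a, ha⟩ * ⟨b, hb⟩) (a₂ := ⟨b, hb⟩ * ⟨a, ha⟩) (by
        rw [map_mul, map_mul]; exact f.c)), fun e => f.ne (congrArg p (Subtype.ext e))⟩
  · obtain ⟨d, r⟩ := d.rot_top one.sub (f.sub ha hb)
    exact ⟨d, d.2, congrArg Subtype.val r.h1, congrArg Subtype.val r.h2⟩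

theorem semilin {F : Type*} [Field F] [Finite F] {f : F → F} (h1 : ∀ a b, f (a + b) = f a + f b)
    (h2 : ∀ a, f a = 0 → a = 0) (h3 : ∀ a ≠ 0, ∃ a', ∀ b, f (a * b) = a' * f b) :
    ∃ (σ : F ≃+* F) (c : F), ∀ b, f b = c * σ b := by
  have c0 : f 1 ≠ 0 := fun e => one_ne_zero (h2 _ e)
  have z : f 0 = 0 := by simpa using h1 0 0
  let φ : F →+* F :=
    { toFun := fun b => f b / f 1
      map_one' := div_self c0
      map_zero' := by simp [z]
      map_add' := fun a b => by rw [h1, add_div]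
      map_mul' := fun a b => by
        by_cases a0 : a = 0
        · simp [a0, z]
        obtain ⟨a', e⟩ := h3 a a0
        have := e 1
        rw [mul_one] at this
        rw [e, this]; field_simp }
  exact ⟨RingEquiv.ofBijective φ (Finite.injective_iff_bijective.1 φ.injective), f 1,
    fun b => (mul_div_cancel₀ _ c0).symm⟩

theorem sl_psl {F : Type} [Field F] [CharP F 2] : Nonempty (SL(2, F) ≃* PSL(2, F)) :=
  ⟨MulEquiv.ofBijective (QuotientGroup.mk' _) ⟨(injective_iff_map_eq_one _).2 fun g e =>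
    (mem_center_sl.1 ((QuotientGroup.eq_one_iff g).1 e)).elim id fun e => e.trans
      (Dg.sl_ext.2 (by simp only [Dg.sl_neg, Dg.sl_one, CharTwo.neg_eq])),
    QuotientGroup.mk'_surjective _⟩⟩

theorem sl_comm {F : Type} [Field F] [Fintype F] [CharP F 2] {s x y : SL(2, F)} (s1 : s ≠ 1)
    (hx : x ∈ Cen1 s) (hy : y ∈ Cen1 s) : x * y = y * x := by
  have k : ∀ c : F, s.1 ≠ c • (1 : Dg.M2 F) := fun c e => s1 (Dg.sl_ext.2 (by
    have := s.2
    rw [e, Dg.det_smul2, det_one, mul_one, ← one_pow 2, CharTwo.sq_inj] at this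
    rw [e, this, one_smul, Dg.sl_one]))
  obtain ⟨a, b, e1⟩ := IT.comm_form k (Dg.sl_ext.1 (c1.1 hx))
  obtain ⟨c, d, e2⟩ := IT.comm_form k (Dg.sl_ext.1 (c1.1 hy))
  rw [Dg.sl_ext, Dg.sl_mul, Dg.sl_mul, e1, e2]
  simp only [add_mul, mul_add, smul_mul_assoc, mul_smul_comm, one_mul, mul_one, smul_add, smul_smul,
    mul_comm a, mul_comm b]
  abel

theorem Sx.even [IsSimpleGroup G] (hG : ¬ IsMulCommutative G) (h : Sx t L) {F : Type} [Field F]
    [Fintype F] [CharP F 2] (hq : 3 < Fintype.card F) {p : L →* SL(2, F)}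
    (hp : Function.Surjective p) (ho : Odd (Nat.card p.ker)) :
    ∃ A : Subgroup G, IsSylowOf 2 A ⊤ ∧ Nat.card A = 8 ∧ ∀ x ∈ A, x * x = 1 := by
  have : Group.IsPerfect G := ⟨W.simple_perfect hG⟩
  let U : Subgroup SL(2, F) :=
    { carrier := Set.range uT
      one_mem' := ⟨0, uT_zero⟩
      mul_mem' := by rintro _ _ ⟨a, rfl⟩ ⟨b, rfl⟩; exact ⟨_, uT_add a b⟩
      inv_mem' := by rintro _ ⟨a, rfl⟩; exact ⟨_, (uT_inv a).symm⟩ }
  obtain ⟨P, hP, e⟩ := exists_isPGroup_map_eq hp (X := U) (CIT.el_two (by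
    rintro _ ⟨a, rfl⟩; rw [← uT_add, aa, uT_zero]))
  choose j j1 j2 using fun a => mem_map.1 (e.ge (show uT a ∈ U from ⟨a, rfl⟩))
  have uq : ∀ {R : Subgroup L} {x : L} {a : F}, IsPGroup 2 R → P ≤ R → x ∈ R → p x = uT a →
      x = j a := fun {R x a} hR le hx e => (inv_mul_eq_one.1 (inj2 ho hR
        (mul_mem (inv_mem (le (j1 a))) hx) (by rw [map_mul, map_inv, j2, e, inv_mul_cancel]))).symm
  have ui : ∀ {a b : F}, uT a = uT b → a = b := fun e => by
    simpa using congrArg (fun g : SL(2, F) => g.1 0 1) e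
  have sb : SB t F := fun R hR le => (h.bound hR le).trans (Nat.mul_le_mul_left 2 (by
    have two : IsPGroup 2 ((R ⊓ L).subgroupOf L) := isPGroup_subgroupOf hR.to_inf_left L
    have d := card_dvd_of_injective _ (inj2' ho two)
    obtain ⟨k, hk⟩ := two.exists_card_eq
    obtain ⟨n, n0, hn⟩ := two_card F
    rw [← Nat.card_congr (subgroupOfEquivOfLe (inf_le_right : R ⊓ L ≤ L)).toEquiv, hk]
    rw [H9.card_SL2, hk, ← Nat.card_eq_fintype_card] at d
    refine Nat.le_of_dvd Nat.card_pos (Nat.Coprime.dvd_of_dvd_mul_right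
      (Nat.Coprime.pow_left k (Nat.coprime_two_left.2 ?_)) d)
    rw [hn]
    exact Nat.Even.sub_odd (Nat.one_le_pow _ _ (by positivity))
      (((Nat.even_pow' n0).2 even_two).pow_of_ne_zero two_ne_zero) odd_one))
  have scL : ∀ a ≠ 0, ∃ g ∈ L, ∀ b, g * j b * g⁻¹ = j (a * b) := fun a a0 => by
    obtain ⟨c, rfl⟩ := (fr F).surjective a
    have c0 : c ≠ 0 := fun e => a0 (by simp [e])
    obtain ⟨D, hD⟩ := Dg.exists_sl (A := !![c, 0; 0, c⁻¹]) (by simp [c0])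
    obtain ⟨g, hg⟩ := hp D
    have k : ∀ b, p g * uT b * (p g)⁻¹ = uT (fr F c * b) := fun b => by
      rw [mul_inv_eq_iff_eq_mul, hg, Dg.sl_ext, Dg.sl_mul, Dg.sl_mul, hD,
        show fr F c = c ^ 2 from rfl]
      simp only [uT_coe, Dg.mx, true_and, and_true]
      field_simp
    have hS : IsSylowOf 2 P (U.comap p) := isSylowOf_of_maximal (map_le_iff_le_comap.1 e.le) hP
      fun R hR l1 l2 y hy => by
        obtain ⟨a, e⟩ := l2 hy
        exact uq hR l1 hy e.symm ▸ j1 a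
    obtain ⟨n, ⟨w, hw⟩, e1⟩ := hS.frattini (g := g) (mnor fun x ⟨b, hb⟩ =>
      ⟨_, by rw [map_mul, map_mul, map_inv, ← hb, k]⟩)
    refine ⟨_, (n⁻¹ * g).2, fun b => congrArg Subtype.val (uq hP le_rfl (cmem e1 (j1 b)) ?_)⟩
    calc _ = (p n)⁻¹ * (p g * p (j b) * (p g)⁻¹) * p n := by
          simp only [map_mul, map_inv]; group
      _ = _ := by rw [j2, k, ← hw, uT_inv, ← uT_add, ← uT_add]; congr 1; ring
  have w : Tw0 t fun a => (j a : G) := ⟨fun a b => congrArg Subtype.val (uq hP le_rfl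
      (mul_mem (j1 a) (j1 b)) (by rw [map_mul, j2, j2, uT_add])).symm,
    fun a b e => ui (by rw [← j2, ← j2, Subtype.ext e]), h.tt, fun a => h.le (j a).2,
    fun a e => h.tn (e ▸ (j a).2), fun a a0 => (scL a a0).imp fun g e => ⟨h.le e.1, e.2⟩,
    by rw [Nat.card_eq_fintype_card]; omega, fun R hR _ => sb R hR⟩
  have sy := w.ev sb h.nsq (fun g g1 g2 => by
    obtain ⟨σ, c, e⟩ := semilin (w.ell_add g2) (fun _ => w.ell_inj g2) fun a a0 => by
      obtain ⟨m, mL, hm⟩ := scL a a0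
      have mU := w.norU fun b => ⟨_, hm b⟩
      have yL := cmem (h.nor g1) mL
      have yU := mul_mem (mul_mem g2 mU) (inv_mem g2)
      have k : ∀ b, p ⟨_, yL⟩ * uT b = uT (ell _ (g * m * g⁻¹) b) * p ⟨_, yL⟩ := fun b => by
        rw [← j2, ← j2, ← map_mul, ← map_mul]
        exact congrArg p (Subtype.ext (by
          change _ * _ = _ * _
          rw [w.i_ell yU, inv_mul_cancel_right]))
      generalize p ⟨_, yL⟩ = Y at k
      refine ⟨Y.1 0 0 ^ 2, fun b => ?_⟩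
      rw [← w.ell_eq (hm b), ← w.ell_mul g2 mU, ← inv_mul_cancel_right (g * m) g,
        w.ell_mul yU g2]
      have k1 := k 1
      have k2 := k (ell (fun a => (j a : G)) g b)
      have d := Dg.sl_det Y
      rw [Dg.sl_ext, Dg.sl_mul, Dg.sl_mul] at k1 k2
      simp only [uT_coe, Dg.mx] at k1 k2
      have y0 : Y.1 1 0 = 0 := by linear_combination k1.2.2.2
      rw [y0, mul_zero, sub_zero] at d
      linear_combination -Y.1 0 0 * k2.2.1 - ell _ (g * m * g⁻¹) (ell _ g b) * d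
    exact ⟨σ, c, fun b => by rw [← e, w.i_ell g2]⟩) (h.h0 w (w.U_le fun a => (j a).2))
  refine ⟨_, sy, ?_, fun _ => w.elA⟩
  have as : W.AS _ ⊤ := ⟨sy, CIT.el_isComm fun _ => w.elA⟩
  rcases W.known_top _ G _ rfl hG as with e1 | e1 | ⟨_, _, e1⟩
  · rw [w.cardA, Nat.card_eq_fintype_card] at e1
    omega
  · obtain ⟨K, _, _, c, ⟨φ⟩⟩ := W.l2_se hG as e1
    obtain ⟨n, n0, hn⟩ := two_card F
    have : CharP K 2 := charP_of_card_eq_prime_pow (f := n + 1) (by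
      rw [c, w.cardA, hn, pow_succ'])
    obtain ⟨ψ⟩ := sl_psl (F := K)
    obtain ⟨a, a0, a1⟩ := w.ex_om
    obtain ⟨g, g1, g2⟩ := w.sc a a0
    have k : ∀ {y : G}, y ∈ Cen1 t → (φ.trans ψ.symm) y ∈ Cen1 ((φ.trans ψ.symm) t) := fun hy =>
      c1.2 (by rw [← map_mul, ← map_mul, c1.1 hy])
    have := sl_comm (by simpa using w.t1) (k g1) (k (w.tc 1))
    rw [← map_mul, ← map_mul, EmbeddingLike.apply_eq_iff_eq, ← mul_inv_eq_iff_eq_mul, g2] at this
    exact absurd (by simpa using w.inj this) a1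
  · exact e1.c8

theorem setup {Y X : Type*} [Group Y] [Group.IsPerfect Y] [Group X] [Finite X]
    (hY : Cen (⊤ : Subgroup Y) = ⊥) (ht : orderOf t = 2) {f : Cen1 t →* X}
    (sf : Function.Surjective f) (ok : Odd (Nat.card f.ker))
    (e : ↥(closure {x : X | ∃ k : ℕ, orderOf x = 2 ^ k}) ≃* Multiplicative (ZMod 2) × Y) :
    ∃ (L : Subgroup G) (p : L →* Y), Sx t L ∧ Function.Surjective p ∧ Odd (Nat.card p.ker) := by
  have mK : ∀ (y : ↥(Cen1 t)) (k : ℕ), (y : G) ^ 2 ^ k = 1 → f y ∈ closure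
      {x : X | ∃ k : ℕ, orderOf x = 2 ^ k} := fun y k hy => by
    obtain ⟨j, -, hj⟩ := (Nat.dvd_prime_pow Nat.prime_two).1 (orderOf_dvd_of_pow_eq_one
      (show f y ^ 2 ^ k = 1 by rw [← map_pow, show y ^ 2 ^ k = 1 from Subtype.ext hy, map_one]))
    exact subset_closure ⟨j, hj⟩
  have nK : (closure {x : X | ∃ k : ℕ, orderOf x = 2 ^ k}).Normal :=
    (normalizer_eq_top_iff.1 (eq_top_iff.2 fun g _ => mem_normalizer_of_conjS_le (map_le_iff_le_comap.2
      ((closure_le _).2 fun x ⟨k, hk⟩ => mem_comap.2 (subset_closure ⟨k, (oconj g x).trans hk⟩)))))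
  generalize closure {x : X | ∃ k : ℕ, orderOf x = 2 ^ k} = K at e mK nK
  let M := ((MonoidHom.fst _ _).comp e.toMonoidHom).ker.map K.subtype
  have mM : ∀ {x : K}, (x : X) ∈ M ↔ (e x).1 = 1 := mem_map_iff_mem K.subtype_injective
  have MK : M ≤ K := map_subtype_le _
  have nM : M.Normal := ⟨fun x hx g => by
    have := Abelianization.commutator_subset_ker (((MonoidHom.fst _ _).comp e.toMonoidHom).comp
      ((MulAut.conjNormal g).toMonoidHom.comp (e.symm.toMonoidHom.comp (MonoidHom.inr _ _))))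
      (Group.IsPerfect.mem_commutator (g := (e ⟨x, MK hx⟩).2))
    refine (mM (x := MulAut.conjNormal g ⟨x, MK hx⟩)).2 (Eq.trans ?_ this)
    change _ = (e (MulAut.conjNormal g (e.symm (1, _)))).1
    rw [← (mM (x := ⟨x, MK hx⟩)).1 hx, Prod.mk.eta, e.symm_apply_apply]⟩
  let t' : ↥(Cen1 t) := ⟨t, c1.2 rfl⟩
  have tK := mK t' 1 (by rw [pow_one, sq]; exact ii ht)
  have t2 : (e ⟨_, tK⟩).2 = 1 := mem_bot.1 (hY ▸ cen.2 fun y _ => by
    obtain ⟨⟨x, hx⟩, e1⟩ := e.surjective (1, y)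
    obtain ⟨x, rfl⟩ := sf x
    have : (⟨_, tK⟩ * ⟨_, hx⟩ : K) = ⟨_, hx⟩ * ⟨_, tK⟩ := Subtype.ext (by
      change _ * _ = _ * _
      rw [← map_mul, ← map_mul]; exact congrArg f (Subtype.ext (c1.1 x.2).symm))
    have := congrArg (fun x => (e x).2) this
    simp only [map_mul, e1] at this
    exact this)
  have k1 : ∀ x : K, (e x).1 = 1 → (e x).2 = 1 → (x : X) = 1 := fun x e1 e2 =>
    congrArg Subtype.val (e.injective ((Prod.ext e1 e2).trans (map_one e).symm))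
  have t1 : (e ⟨_, tK⟩).1 ≠ 1 := fun e1 => not_mem_odd ok (t := t') (by rwa [← orderOf_coe])
    (k1 _ e1 t2)
  have q0 : ∀ y : pre f M, f (inclusion (pre_le M) y) ∈ M := fun y => coe_mem_pre.1 y.2
  let q : pre f M →* K := (f.comp (inclusion (pre_le M))).codRestrict K fun y => MK (q0 y)
  refine ⟨pre f M, ((MonoidHom.snd _ _).comp e.toMonoidHom).comp q, ⟨ht, pre_le M,
    le_normalizer_pre le_rfl (le_top.trans (normalizer_eq_top M).ge),
    fun e1 => t1 (mM.1 (coe_mem_pre.1 (show (t' : G) ∈ _ from e1))), fun y hy k e1 => ?_⟩,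
    fun y => ?_, ?_⟩
  · have yK := mK ⟨y, hy⟩ k e1
    have : ∀ a b : Multiplicative (ZMod 2), b ≠ 1 → a = 1 ∨ a * b = 1 := by decide
    refine (this (e ⟨_, yK⟩).1 _ t1).imp (fun e2 => mem_pre.2 ⟨hy, mM.2 e2⟩) fun e2 =>
      (coe_mem_pre (x := ⟨y, hy⟩ * t')).2 ?_
    rw [map_mul]
    exact (mM (x := ⟨_, yK⟩ * ⟨_, tK⟩)).2 (by rwa [map_mul])
  · obtain ⟨⟨x, hx⟩, e1⟩ := e.surjective (1, y)
    obtain ⟨x, rfl⟩ := sf x
    exact ⟨⟨x, coe_mem_pre.2 ((mM (x := ⟨_, hx⟩)).2 (by rw [e1]))⟩, congrArg Prod.snd e1⟩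
  · rw [← Nat.not_even_iff_odd, even_iff_two_dvd]
    intro h2
    obtain ⟨⟨y, hy⟩, o⟩ := exists_prime_orderOf_dvd_card' 2 h2
    exact not_mem_odd ok (t := inclusion (pre_le M) y) ((orderOf_injective _
      (inclusion_injective _) _).trans ((orderOf_coe _).trans o)) (k1 (q y) (mM.1 (q0 y)) hy)

theorem main [IsSimpleGroup G] (hG : ¬ IsMulCommutative G) (ht : orderOf t = 2) {F : Type}
    [Field F] [Fintype F] (hq : 3 < Fintype.card F)
    (e : ↥(closure {x : ↥(Cen1 t) ⧸ oddCore ↥(Cen1 t) | ∃ k : ℕ, orderOf x = 2 ^ k}) ≃*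
      Multiplicative (ZMod 2) × PSL(2, F)) :
    ∃ A : Subgroup G, IsSylowOf 2 A ⊤ ∧ Nat.card A = 8 ∧ ∀ x ∈ A, x * x = 1 := by
  have : Group.IsPerfect G := ⟨W.simple_perfect hG⟩
  have := psl_perf hq
  have := H8.psl_simple (slok hq)
  obtain ⟨L, p, h, hp, ho⟩ := setup (cen_top_simple (psl_nc hq)) ht
    (QuotientGroup.mk'_surjective _) (odd_iff_cop.2 coprime_ker_mk') e
  by_cases h2 : ringChar F = 2
  · have := ringChar.of_eq h2
    obtain ⟨ψ⟩ := sl_psl (F := F)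
    exact h.even hG hq (p := ψ.symm.toMonoidHom.comp p) (ψ.symm.surjective.comp hp)
      (by rwa [← MonoidHom.comap_ker, (MonoidHom.ker_eq_bot_iff _).2 ψ.symm.injective,
        MonoidHom.comap_bot])
  · exact (h.so (psl_nc hq) (psl_d2 hq (Nat.odd_iff.2 (FiniteField.odd_card_of_char_ne_two h2)))
      hp ho).syl

end TW
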