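import Cfsg.Agent.TW.Trf
import Cfsg.Agent.H2.F4
import Cfsg.Agent.GW.L2

/-! Four-groups as the additive group of the field with four elements. -/

set_option autoImplicit false
set_option linter.unusedSectionVars false
set_option linter.unusedVariables false

namespace TW

open Cfsg Subgroup FT H4 H5 GW

instance charF4 : CharP H2.F4 2 := CharTwo.of_one_ne_zero_of_two_eq_zero one_ne_zero
  (by rw [← one_add_one_eq_two]; decide +kernel)

/-- a generator -/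
def om : H2.F4 := ⟨2⟩

theorem cases4 : ∀ c : H2.F4, c = 0 ∨ c = 1 ∨ c = om ∨ c = 1 + om := by decide +kernel

theorem nat4 : Nat.card H2.F4 = 4 := by rw [Nat.card_eq_fintype_card, H2.F4.card_F4]

theorem lin4 {f : H2.F4 → H2.F4} (h1 : ∀ a b, f (a + b) = f a + f b) (h2 : ∀ a, f a = 0 → a = 0) :
    ∃ (σ : H2.F4 ≃+* H2.F4) (c : H2.F4), ∀ b, f b = c * σ b := by
  have k : ∀ c d : H2.F4, c ≠ 0 → d ≠ 0 → c + d ≠ 0 → d = c * om ∨ d = c * om ^ 2 := by
    decide +kernel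
  have z : f 0 = 0 := by simpa using h1 0 0
  obtain ⟨σ, e⟩ : ∃ σ : H2.F4 ≃+* H2.F4, f om = f 1 * σ om := by
    rcases k (f 1) (f om) (fun e => one_ne_zero (h2 _ e)) (fun e => absurd (h2 _ e)
      (by decide +kernel)) (fun e => absurd (h2 _ (h1 _ _ ▸ e)) (by decide +kernel)) with e | e
    exacts [⟨1, e⟩, ⟨fr _, e⟩]
  refine ⟨σ, f 1, fun b => ?_⟩
  rcases cases4 b with rfl | rfl | rfl | rfl
  · simp [z]
  · simp
  · exact e
  · rw [h1, e, map_add, map_one, mul_add, mul_one]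

variable {G : Type*} [Group G] [Finite G] {L S T D P : Subgroup G} {a b t x y z d r : G}

theorem Tw0.sl4 {ι : H2.F4 → G} (h : Tw0 t ι) (g : G) (hg : g ∈ Nor (Ur ι)) :
    ∃ (σ : H2.F4 ≃+* H2.F4) (c : H2.F4), ∀ b, g * ι b * g⁻¹ = ι (c * σ b) := by
  obtain ⟨σ, c, e⟩ := lin4 (h.ell_add hg) fun _ => h.ell_inj hg
  exact ⟨σ, c, fun b => by rw [← e, h.i_ell hg]⟩

/-- the parametrization of a four-group -/
def i4 (a b : G) (c : H2.F4) : G := a ^ (c.val.1 % 2) * b ^ (c.val.1 / 2)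

theorem i40 : i4 a b 0 = 1 := by change a ^ 0 * b ^ 0 = 1; simp
theorem i41 : i4 a b 1 = a := by change a ^ 1 * b ^ 0 = a; simp
theorem i42 : i4 a b om = b := by change a ^ 0 * b ^ 1 = b; simp
theorem i43 : i4 a b (1 + om) = a * b := by change a ^ 1 * b ^ 1 = a * b; simp

theorem i4_mem {H : Subgroup G} (ha : a ∈ H) (hb : b ∈ H) (c : H2.F4) : i4 a b c ∈ H :=
  mul_mem (pow_mem ha _) (pow_mem hb _)

theorem Ur_i4 : Ur (i4 a b) = V4 a b := le_antisymm ((closure_le _).2 (by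
  rintro _ ⟨c, rfl⟩; exact i4_mem (t_V a b) (a_V a b) c))
  (V_le (subset_closure ⟨1, i41⟩) (subset_closure ⟨om, i42⟩))

theorem tw4 (f : F4 a b) (tt : t * t = 1) (h1 : a ∈ Cen1 t) (h2 : b ∈ Cen1 t) (h3 : t ∉ V4 a b)
    (hd : d ∈ Cen1 t) (r : Rot a b d)
    (AB : ∀ P : Subgroup G, IsPGroup 2 P → P ≤ Cen P → P ≤ Cen1 t → Nat.card P ≤ 8) :
    Tw0 t (i4 a b) := by
  have add : ∀ c d, i4 a b (c + d) = i4 a b c * i4 a b d := fun c d => by
    have k : ∀ c d : H2.F4, (c + d).val.1 % 2 % 2 = (c.val.1 % 2 + d.val.1 % 2) % 2 ∧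
        (c + d).val.1 / 2 % 2 = (c.val.1 / 2 + d.val.1 / 2) % 2 := by decide +kernel
    rw [i4, i4, i4, (f.comm.symm.pow_pow _ _).mul_mul_mul_comm, ← pow_add, ← pow_add,
      ← pow_mod_orderOf a, ← pow_mod_orderOf b, f.ht, f.ha, (k c d).1, (k c d).2, ← f.ht,
      pow_mod_orderOf, f.ht, ← f.ha, pow_mod_orderOf]
  have w : ∀ c, d * i4 a b c * d⁻¹ = i4 a b (om * c) := fun c => by
    rcases cases4 c with rfl | rfl | rfl | rfl
    · simp [i40]
    · rw [mul_one, i41, i42, r.h1]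
    · rw [show om * om = 1 + om by decide +kernel, i42, i43, r.h2]
    · rw [show om * (1 + om) = 1 by decide +kernel, i41, i43, r.h3 f]
  refine ⟨add, fun c d e => ?_, tt, i4_mem h1 h2, fun c e => h3 (e ▸ i4_mem (t_V a b) (a_V a b) c),
    fun c c0 => ?_, by rw [nat4]; norm_num, by rwa [nat4]⟩
  · have := add c d
    rw [e, ← add, aa, i40] at this
    rcases cases4 (c + d) with e | e | e | e <;> rw [e] at this
    · exact CharTwo.add_eq_zero.1 e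
    · exact absurd (i41.symm.trans this) (ine f.ht)
    · exact absurd (i42.symm.trans this) (ine f.ha)
    · exact absurd (i43.symm.trans this) (ine f.hta)
  · rcases cases4 c with rfl | rfl | rfl | rfl
    · exact absurd rfl c0
    · exact ⟨1, one_mem _, by simp⟩
    · exact ⟨d, hd, w⟩
    · exact ⟨d * d, mul_mem hd hd, fun c => by
        rw [show 1 + om = om * om by decide +kernel, mul_assoc om, ← w, ← w]; group⟩

/-- the centralizer of `t` is `⟨t⟩ × L` up to odd index -/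
structure Sx (t : G) (L : Subgroup G) : Prop where
  ot : orderOf t = 2
  le : L ≤ Cen1 t
  nor : Cen1 t ≤ Nor L
  tn : t ∉ L
  two : ∀ y ∈ Cen1 t, ∀ k, y ^ 2 ^ k = 1 → y ∈ L ∨ y * t ∈ L

namespace Sx

variable (h : Sx t L)
include h

theorem tt : t * t = 1 := ii h.ot

theorem mul (c : y ∈ Cen1 t) (h1 : x * t ∈ L) (h2 : y * t ∈ L) : x * y ∈ L :=
  mem_of_eq (mul_mem h1 h2) (by rw [mul_assoc, ← mul_assoc t, ← c1.1 c, mul_assoc y, h.tt, mul_one])

theorem nsq (y : G) : y * y ≠ t := fun e => by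
  have c : y ∈ Cen1 t := c1.2 (by rw [← e, mul_assoc])
  rcases h.two y c (1 + 1) (by rw [pw4, e, h.tt]) with e1 | e1
  · exact h.tn (e ▸ mul_mem e1 e1)
  · exact h.tn (e ▸ h.mul c e1 e1)

theorem nsq' : ¬ IsConj t (y * y) := fun e => by
  obtain ⟨g, e⟩ := isConj_iff.1 e.symm
  exact h.nsq (g * y * g⁻¹) (by rw [conj_mul, e])

theorem twoP (hP : IsPGroup 2 P) (le : P ≤ Cen1 t) (hy : y ∈ P) : y ∈ L ∨ y * t ∈ L := by
  obtain ⟨k, hk⟩ := hP ⟨y, hy⟩
  exact h.two y (le hy) k (congrArg Subtype.val hk)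

theorem bound (hP : IsPGroup 2 P) (le : P ≤ Cen1 t) : Nat.card P ≤ 2 * Nat.card ↥(P ⊓ L) :=
  idx2' inf_le_left fun x hx y hy x1 y1 => ⟨mul_mem hx hy, h.mul (le hy)
    ((h.twoP hP le hx).resolve_left fun e => x1 ⟨hx, e⟩)
    ((h.twoP hP le hy).resolve_left fun e => y1 ⟨hy, e⟩)⟩

theorem h0 {F : Type*} [Field F] [Fintype F] [CharP F 2] {ι : F → G} (w : Tw0 t ι) (UL : Ur ι ≤ L)
    (g : G) (h1 : g ∈ Cen1 t) (h2 : g ∈ Nor (Ur ι ⊔ zpowers t)) : g ∈ Nor (Ur ι) :=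
  mnor fun x hx => (w.memA.1 (cmem h2 (mem_sup_left hx))).resolve_right fun e =>
    h.tn ((mul_mem_cancel_left (cmem (h.nor h1) (UL hx))).1 (UL e))

end Sx

/-- the case of dihedral Sylow 2-subgroups -/
structure So (t : G) (L : Subgroup G) : Prop extends Sx t L where
  d2 : ∀ T ≤ L, IsPGroup 2 T → ∃ x ∈ T, ∀ y ∈ T, y ∉ zpowers x →
    y * y = 1 ∧ y * x * y⁻¹ = x⁻¹ ∧ ∀ z ∈ T, z ∉ zpowers x → y * z ∈ zpowers x
  one : OneCl L
  f4 : ∃ a ∈ L, ∃ b ∈ L, F4 a b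
  rot : ∀ a ∈ L, ∀ b ∈ L, F4 a b → ∃ d ∈ L, Rot a b d

theorem ex_sq {k : ℕ} (h : x ^ 2 ^ k = 1) (h2 : x * x ≠ 1) :
    ∃ r ∈ zpowers x, orderOf (r * r) = 2 := by
  obtain ⟨_, ⟨j, rfl⟩, o⟩ := _root_.P.exists_inv_mem (isPGroup_zpowers_of_pow (x := x * x) (k := k)
    (by rw [(Commute.refl x).mul_pow, h, one_mul])) (zpowers_ne_bot.2 h2)
  exact ⟨x ^ j, zpow_mem (mem_zpowers x) j, by rwa [← (Commute.refl x).mul_zpow]⟩

theorem So.small [Group.IsPerfect G] (h : So t L) (nb : ∀ r ∈ L, orderOf (r * r) ≠ 2) :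
    ∃ A : Subgroup G, IsSylowOf 2 A ⊤ ∧ Nat.card A = 8 ∧ ∀ x ∈ A, x * x = 1 := by
  have sb : ∀ P : Subgroup G, IsPGroup 2 P → P ≤ Cen1 t → Nat.card P ≤ 8 := fun P hP le => by
    obtain ⟨x, hx, e⟩ := h.d2 (P ⊓ L) inf_le_right hP.to_inf_left
    have x2 : x * x = 1 := by
      by_contra x2
      obtain ⟨k, hk⟩ := hP ⟨x, hx.1⟩
      obtain ⟨r, hr, o⟩ := ex_sq (congrArg Subtype.val hk) x2
      exact nb r (zpowers_le.2 hx.2 hr) o
    have c1 := idx2' (zpowers_le.2 hx) fun a ha b hb a1 b1 => (e a ha a1).2.2 b hb b1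
    have c2 := h.bound hP le
    have c3 := Nat.le_of_dvd two_pos (orderOf_dvd_of_pow_eq_one ((sq x).trans x2))
    rw [Nat.card_zpowers] at c1
    omega
  obtain ⟨a, ha, b, hb, f⟩ := h.f4
  obtain ⟨d, hd, r⟩ := h.rot a ha b hb f
  have w := tw4 f h.tt (h.le ha) (h.le hb) (fun e => h.tn (V_le ha hb e)) (h.le hd) r
    fun P hP _ => sb P hP
  exact ⟨_, w.ev (fun P hP le => nat4 ▸ sb P hP le) h.nsq (fun g _ => w.sl4 g)
    (h.h0 w (Ur_i4.trans_le (V_le ha hb))), by rw [w.cardA, nat4], fun _ => w.elA⟩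

end TW
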